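import Mathlib.GroupTheory.Sylow
import Mathlib.Tactic.Group

set_option autoImplicit false

/-!
A criterion for all automorphisms to be inner: a group generated by `c, d, e`, where `⟨c⟩` is a
Sylow subgroup of prime order whose normaliser is `⟨c, d⟩` and induces every automorphism of it,
and `e` normalises `⟨d⟩`.
-/

namespace Cfsg.Agent.AutCert

open scoped Pointwise

/-- A word in three letters. -/
def word3 {M : Type*} [Monoid M] (a b c : M) : List ℕ → M
  | [] => 1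
  | 0 :: w => a * word3 a b c w
  | 1 :: w => b * word3 a b c w
  | (_ + 2) :: w => c * word3 a b c w

theorem map_word3 {M N : Type*} [Monoid M] [Monoid N] (f : M →* N) (a b c : M) :
    ∀ w : List ℕ, f (word3 a b c w) = word3 (f a) (f b) (f c) w
  | [] => map_one f
  | 0 :: w => by rw [word3, word3, map_mul, map_word3 f a b c w]
  | 1 :: w => by rw [word3, word3, map_mul, map_word3 f a b c w]
  | (i + 2) :: w => by rw [word3, word3, map_mul, map_word3 f a b c w]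

theorem word3_mem {G : Type*} [Group G] {K : Subgroup G} {a b c : G} (ha : a ∈ K) (hb : b ∈ K)
    (hc : c ∈ K) : ∀ w : List ℕ, word3 a b c w ∈ K
  | [] => one_mem K
  | 0 :: w => mul_mem ha (word3_mem ha hb hc w)
  | 1 :: w => mul_mem hb (word3_mem ha hb hc w)
  | (i + 2) :: w => mul_mem hc (word3_mem ha hb hc w)

variable {G : Type*} [Group G] [Finite G]

theorem exists_conj_of_three_gen (p : ℕ) [Fact p.Prime] (hp2 : ¬ p ^ 2 ∣ Nat.card G) {c d e : G}
    {r s n : ℕ} (hc : orderOf c = p) (hdc : d * c = c ^ r * d) (hed : e * d = d ^ s * e)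
    (hgen : Subgroup.closure ({c, d, e} : Set G) = ⊤)
    (hCc : ∀ x : G, x * c = c * x → ∃ i < p, x = c ^ i)
    (hCd : ∀ x : G, x * d = d * x → ∃ i < n, x = d ^ i)
    (hreps : ∀ k < p, k = 0 ∨ ∃ i : ℕ, d ^ i * c ^ k = c * d ^ i)
    (hshift : ∀ i < p, ∃ j : ℕ, c ^ j * (d * c ^ i) = d * c ^ j)
    (hno : ∀ i < n, i = 0 ∨ ∃ w, word3 c d e w = 1 ∧ word3 c d (e * d ^ i) w ≠ 1)
    (φ : MulAut G) : ∃ a : G, ∀ x : G, φ x = a * x * a⁻¹ := by
  have hzc : Nat.card (Subgroup.zpowers c) = p ^ (Nat.card G).factorization p := by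
    have hp : p.Prime := Fact.out
    have h1 : (Nat.card G).factorization p = 1 := by
      have hdvd : p ∣ Nat.card G := hc ▸ orderOf_dvd_natCard c
      have hpos := hp.factorization_pos_of_dvd Nat.card_pos.ne' hdvd
      by_contra hne
      exact hp2 ((hp.pow_dvd_iff_le_factorization Nat.card_pos.ne').2 (by omega))
    rw [h1, pow_one, Nat.card_zpowers, hc]
  let P : Sylow p G := Sylow.ofCard (Subgroup.zpowers c) hzc
  let Q : Sylow p G := Sylow.ofCard ((Subgroup.zpowers c).map φ.toMonoidHom)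
    (by rw [Subgroup.card_map_of_injective φ.injective, hzc])
  obtain ⟨h₁, hh₁⟩ := MulAction.exists_smul_eq G Q P
  have hmem₁ : h₁ * φ c * h₁⁻¹ ∈ Subgroup.zpowers c := by
    have : (MulAut.conj h₁ • ((Subgroup.zpowers c).map φ.toMonoidHom)) = Subgroup.zpowers c :=
      congrArg Sylow.toSubgroup hh₁
    rw [← this]
    exact ⟨φ c, ⟨c, Subgroup.mem_zpowers c, rfl⟩, rfl⟩
  classical
  obtain ⟨k, hklt, hk⟩ : ∃ k < p, c ^ k = h₁ * φ c * h₁⁻¹ := by
    rw [mem_zpowers_iff_mem_range_orderOf, Finset.mem_image] at hmem₁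
    obtain ⟨k, hk, hk'⟩ := hmem₁
    exact ⟨k, hc ▸ Finset.mem_range.1 hk, hk'⟩
  obtain h0 | ⟨i, hi⟩ := hreps k hklt
  · rw [h0, pow_zero, eq_comm, mul_inv_eq_one, mul_eq_left] at hk
    have : c = 1 := φ.injective (hk.trans (map_one φ).symm)
    rw [this, orderOf_one] at hc
    exact absurd hc.symm (Fact.out : p.Prime).ne_one
  let ψ₁ : MulAut G := φ.trans (MulAut.conj (d ^ i * h₁))
  have hψc : ψ₁ c = c := by
    change d ^ i * h₁ * φ c * (d ^ i * h₁)⁻¹ = c
    rw [mul_inv_rev, show d ^ i * h₁ * φ c * (h₁⁻¹ * (d ^ i)⁻¹) =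
      d ^ i * (h₁ * φ c * h₁⁻¹) * (d ^ i)⁻¹ by group, ← hk, hi, mul_inv_cancel_right]
  have hcomm : d⁻¹ * ψ₁ d * c = c * (d⁻¹ * ψ₁ d) := by
    have h1 : ψ₁ d * c = c ^ r * ψ₁ d := by
      calc ψ₁ d * c = ψ₁ (d * c) := by rw [map_mul, hψc]
        _ = c ^ r * ψ₁ d := by rw [hdc, map_mul, map_pow, hψc]
    have h2 : d⁻¹ * c ^ r = c * d⁻¹ := by
      rw [inv_mul_eq_iff_eq_mul, ← mul_assoc, hdc, mul_inv_cancel_right]
    rw [mul_assoc, h1, ← mul_assoc, h2, mul_assoc]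
  obtain ⟨i₂, hi₂, hi₂'⟩ := hCc _ hcomm
  obtain ⟨j, hj⟩ := hshift i₂ hi₂
  let ψ : MulAut G := ψ₁.trans (MulAut.conj (c ^ j))
  have hψc' : ψ c = c := by
    change c ^ j * ψ₁ c * (c ^ j)⁻¹ = c
    rw [hψc, mul_inv_eq_iff_eq_mul]
    exact ((Commute.refl c).pow_left j).eq
  have hψd : ψ d = d := by
    change c ^ j * ψ₁ d * (c ^ j)⁻¹ = d
    rw [show ψ₁ d = d * (d⁻¹ * ψ₁ d) by group, hi₂', mul_inv_eq_iff_eq_mul, hj]
  have hcommE : e⁻¹ * ψ e * d = d * (e⁻¹ * ψ e) := by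
    have h1 : ψ e * d = d ^ s * ψ e := by
      calc ψ e * d = ψ (e * d) := by rw [map_mul, hψd]
        _ = d ^ s * ψ e := by rw [hed, map_mul, map_pow, hψd]
    have h2 : e⁻¹ * d ^ s = d * e⁻¹ := by
      rw [inv_mul_eq_iff_eq_mul, ← mul_assoc, hed, mul_inv_cancel_right]
    rw [mul_assoc, h1, ← mul_assoc, h2, mul_assoc]
  obtain ⟨u, hu, hu'⟩ := hCd _ hcommE
  have hψe : ψ e = e := by
    rcases hno u hu with rfl | ⟨w, hw1, hw2⟩
    · rwa [pow_zero, inv_mul_eq_one, eq_comm] at hu'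
    · exfalso
      apply hw2
      have he : ψ e = e * d ^ u := by rw [← hu', mul_inv_cancel_left]
      have := map_word3 ψ.toMonoidHom c d e w
      simp only [MulEquiv.coe_toMonoidHom, hψc', hψd, he, hw1, map_one] at this
      exact this.symm
  have hid : ψ.toMonoidHom = MonoidHom.id G := by
    apply MonoidHom.eq_of_eqOn_dense hgen
    intro x hx
    simp only [Set.mem_insert_iff, Set.mem_singleton_iff] at hx
    rcases hx with rfl | rfl | rfl
    exacts [hψc', hψd, hψe]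
  refine ⟨(c ^ j * (d ^ i * h₁))⁻¹, fun x => ?_⟩
  have hx : c ^ j * (d ^ i * h₁ * φ x * (d ^ i * h₁)⁻¹) * (c ^ j)⁻¹ = x := DFunLike.congr_fun hid x
  calc φ x = (c ^ j * (d ^ i * h₁))⁻¹ * (c ^ j * (d ^ i * h₁ * φ x * (d ^ i * h₁)⁻¹) * (c ^ j)⁻¹) *
      (c ^ j * (d ^ i * h₁)) := by group
    _ = _ := by rw [hx, inv_inv]

/-- If every automorphism is conjugation, the outer automorphism group is trivial. -/
theorem eq_conj_subtype {G : Type*} [Group G] {H : Subgroup G} {φ : MulAut H}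
    (h : ∃ a : H, ∀ x : H, φ x = a * x * a⁻¹) :
    ∃ a : H, ∀ x : H, ((φ x : H) : G) = a.1 * x.1 * a.1⁻¹ := by
  obtain ⟨a, ha⟩ := h
  exact ⟨a, fun x => by rw [ha x]; simp only [Subgroup.coe_mul, Subgroup.coe_inv]⟩

end Cfsg.Agent.AutCert
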