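import Cfsg.Agent.SchurCert.J1Code
import Cfsg.Agent.SporB.J1Spectrum
import Cfsg.Agent.AutCert.ThreeGen
import Cfsg.Agent.AutCert.Count

set_option autoImplicit false
set_option maxRecDepth 20000

/-!
The first Janko group has no outer automorphisms.
-/

namespace Cfsg.Agent.SporB.J1

open AutCert

/-- An element of order 11. -/
def wc : Wit := ⟨46013882014816491388025896736632243525830289530250640790887, 0, 10⟩
/-- An element of order 10 normalising it. -/
def wd : Wit := ⟨28296813148477660455932869301405208027591087273802391492944, 0, 1⟩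
/-- An element normalising the cyclic group of the second. -/
def we : Wit := ⟨885126594501549711237586121363583531253180265784273306784, 591, 80⟩

/-- The power of a code. -/
def cpow (x n : ℕ) : ℕ :=
  SchurCert.Cert.powCode cmul 6277101736848182401506974708411517874814724153223283736577 x n

/-- The value of a word on codes. -/
def cword (a b c : ℕ) : List ℕ → ℕ
  | [] => 6277101736848182401506974708411517874814724153223283736577
  | 0 :: w => cmul a (cword a b c w)
  | 1 :: w => cmul b (cword a b c w)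
  | (_ + 2) :: w => cmul c (cword a b c w)

def wordX : List ℕ := [0, 2, 0, 1, 1, 2, 0, 0, 2, 0, 0]

def wordY : List ℕ := [0, 2, 0, 0, 0, 1, 2, 0, 2, 0, 1, 0, 1, 1, 1, 1, 1, 1, 1, 1, 1]

def relWords : List (List ℕ) :=
  [[0, 1, 0, 2, 1, 0, 2, 0, 1, 0, 2, 1, 0, 2, 0, 1, 0, 2, 1, 0, 2],
   [2, 0, 0, 1, 2, 0, 0, 2, 0, 0, 1, 2, 0, 0, 2, 0, 0, 1, 2, 0, 0],
   [0, 0, 2, 0, 0, 1, 2, 0, 0, 2, 0, 0, 1, 2, 0, 0, 2, 0, 0, 1, 2],
   [2, 0, 0, 2, 0, 0, 1, 2, 0, 0, 2, 0, 0, 1, 2, 0, 0, 2, 0, 0, 1],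
   [1, 0, 2, 1, 0, 2, 0, 1, 0, 2, 1, 0, 2, 0, 1, 0, 2, 1, 0, 2, 0],
   [0, 1, 0, 2, 1, 0, 2, 0, 1, 0, 2, 1, 0, 2, 0, 1, 0, 2, 1, 0, 2],
   [0, 2, 1, 1, 0, 2, 1, 1, 0, 2, 1, 1, 0, 2, 1, 1, 0, 2, 1, 1, 0, 2, 1, 1],
   [0, 1, 2, 0, 0, 2, 0, 0, 1, 2, 0, 0, 2, 0, 0, 1, 2, 0, 0, 2, 0],
   [0, 2, 0, 0, 1, 2, 0, 0, 2, 0, 0, 1, 2, 0, 0, 2, 0, 0, 1, 2, 0]]

theorem autWits_ok : [wc, wd, we].all
    (fun w => w.ok && Nat.beq (enc (toM (dec w.code))) w.code) = true := by
  decide +kernel

theorem wordX_ok : cword wc.code wd.code we.code wordX =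
    397528445359450111623404940514766352372066718580752 := by decide +kernel

theorem wordY_ok : cword wc.code wd.code we.code wordY =
    7480991916830962229115210795734213009165743696062808893992 := by decide +kernel

theorem enc_XY : enc Cfsg.jankoMatrixX = 397528445359450111623404940514766352372066718580752 ∧
    enc Cfsg.jankoMatrixY = 7480991916830962229115210795734213009165743696062808893992 := by
  decide +kernel

theorem aut_check :
    (cpow wc.code 11 = 6277101736848182401506974708411517874814724153223283736577 ∧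
      wc.code ≠ 6277101736848182401506974708411517874814724153223283736577 ∧
      cmul wd.code wc.code = cmul (cpow wc.code 8) wd.code ∧
      cmul we.code wd.code = cmul (cpow wd.code 9) we.code) ∧
    (∀ k < 11, k = 0 ∨ ∃ i < 10, cmul (cpow wd.code i) (cpow wc.code k) = cmul wc.code (cpow wd.code i)) ∧
    (∀ i < 11, ∃ j < 11, cmul (cpow wc.code j) (cmul wd.code (cpow wc.code i)) = cmul wd.code (cpow wc.code j)) ∧
    (∀ i < 10, i = 0 ∨
      cword wc.code wd.code we.code (relWords.getD (i - 1) []) = 6277101736848182401506974708411517874814724153223283736577 ∧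
      cword wc.code wd.code (cmul we.code (cpow wd.code i)) (relWords.getD (i - 1) []) ≠ 6277101736848182401506974708411517874814724153223283736577) := by
  decide +kernel

/-- A matrix is one of the powers. -/
def powMemOk (n : ℕ) (g A : M7) : Bool := (List.range n).any fun i => eqb A (powM g i)

theorem scanC : centScan (dec wc.code) (powMemOk 11 (dec wc.code)) = true := by decide +kernel

theorem scanD : centScan (dec wd.code) (powMemOk 10 (dec wd.code)) = true := by decide +kernel

theorem centraliser_powers {w : Wit} {g : Cfsg.Spor.J1}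
    (hg : ((g : GL (Fin 7) (ZMod 11)) : Matrix (Fin 7) (Fin 7) (ZMod 11)) = toM (dec w.code))
    {n : ℕ} (hs : centScan (dec w.code) (powMemOk n (dec w.code)) = true) (x : Cfsg.Spor.J1)
    (hx : x * g = g * x) : ∃ i < n, x = g ^ i := by
  obtain ⟨A, hA, hA'⟩ := centScan_spec hs x (by
    rw [← hg, Commute, SemiconjBy, ← Units.val_mul, ← Units.val_mul, ← Subgroup.coe_mul,
      ← Subgroup.coe_mul, hx])
  simp only [powMemOk, List.any_eq_true, List.mem_range] at hA'
  obtain ⟨i, hi, hi'⟩ := hA'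
  refine ⟨i, hi, val_inj ?_⟩
  rw [← hA, eqb_eq hi', powM_spec, ← hg, Subgroup.coe_pow, Units.val_pow_eq_pow_val]

theorem enc_word3 (a b c : Cfsg.Spor.J1) : ∀ w : List ℕ,
    j1Code.enc (word3 a b c w) = cword (j1Code.enc a) (j1Code.enc b) (j1Code.enc c) w
  | [] => j1Code.enc_one
  | 0 :: w => by rw [word3, j1Code.enc_mul, enc_word3 a b c w]; rfl
  | 1 :: w => by rw [word3, j1Code.enc_mul, enc_word3 a b c w]; rfl
  | (i + 2) :: w => by rw [word3, j1Code.enc_mul, enc_word3 a b c w]; rfl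

theorem card_out_J1 : Nat.card (Cfsg.Out ↥Cfsg.Spor.J1) = 1 := by
  refine card_out_eq_one_of_conj fun φ => eq_conj_subtype ?_
  haveI : Fact (Nat.Prime 11) := ⟨by norm_num⟩
  have hw := fun w (h : w ∈ [wc, wd, we]) => Bool.and_eq_true_iff.1 (List.all_eq_true.1 autWits_ok w h)
  obtain ⟨c, hc⟩ := exists_enc_wit (hw wc (by simp)).1 (hw wc (by simp)).2
  obtain ⟨d, hd⟩ := exists_enc_wit (hw wd (by simp)).1 (hw wd (by simp)).2
  obtain ⟨e, he⟩ := exists_enc_wit (hw we (by simp)).1 (hw we (by simp)).2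
  have emul := j1Code.enc_mul
  have epow : ∀ (a : Cfsg.Spor.J1) (k : ℕ), j1Code.enc (a ^ k) = cpow (j1Code.enc a) k :=
    fun a k => SchurCert.enc_pow j1Code a k
  have einj := @j1Code.enc_inj
  have hval : ∀ {g : Cfsg.Spor.J1} {w : Wit}, j1Code.enc g = w.code →
      ((g : GL (Fin 7) (ZMod 11)) : Matrix (Fin 7) (Fin 7) (ZMod 11)) = toM (dec w.code) :=
    fun h => ((toM_dec_enc _).symm.trans (congrArg (fun n => toM (dec n)) h))
  obtain ⟨⟨h11, hne, hdc, hed⟩, hreps, hshift, hno⟩ := aut_check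
  have hmul : ∀ a b : Cfsg.Spor.J1, j1Code.enc (a * b) = cmul (j1Code.enc a) (j1Code.enc b) := emul
  refine exists_conj_of_three_gen 11 (by rw [card_J1]; norm_num) (c := c) (d := d) (e := e)
    (r := 8) (s := 9) (n := 10) ?_ ?_ ?_ ?_ ?_ ?_ ?_ ?_ ?_ φ
  · refine orderOf_eq_prime (einj ?_) fun h1 => hne ?_
    · rw [epow, hc, h11, j1Code.enc_one]; rfl
    · rw [← hc, h1, j1Code.enc_one]; rfl
  · exact einj (by rw [hmul, hmul, epow, hc, hd, hdc])
  · exact einj (by rw [hmul, hmul, epow, hd, he, hed])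
  · have hcl : ∀ w, word3 c d e w ∈ Subgroup.closure ({c, d, e} : Set Cfsg.Spor.J1) :=
      fun w => word3_mem (Subgroup.subset_closure (by simp)) (Subgroup.subset_closure (by simp))
        (Subgroup.subset_closure (by simp)) w
    rw [eq_top_iff]
    rintro ⟨x, hx⟩ -
    have hxK : x ∈ (Subgroup.closure ({c, d, e} : Set Cfsg.Spor.J1)).map Cfsg.Spor.J1.subtype := by
      refine (Subgroup.closure_le _).2 ?_ hx
      rintro y (rfl | rfl)
      · refine ⟨_, hcl wordX, Units.ext ?_⟩
        have h := (enc_word3 c d e wordX).trans (by rw [hc, hd, he, wordX_ok, ← enc_XY.1])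
        exact ((toM_dec_enc _).symm.trans (congrArg (fun n => toM (dec n)) h)).trans (toM_dec_enc _)
      · refine ⟨_, hcl wordY, Units.ext ?_⟩
        have h := (enc_word3 c d e wordY).trans (by rw [hc, hd, he, wordY_ok, ← enc_XY.2])
        exact ((toM_dec_enc _).symm.trans (congrArg (fun n => toM (dec n)) h)).trans (toM_dec_enc _)
    obtain ⟨y, hy, hyx⟩ := hxK
    rwa [show (⟨x, hx⟩ : Cfsg.Spor.J1) = y from Subtype.ext hyx.symm]
  · exact fun x hx => centraliser_powers (hval hc) scanC x hx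
  · exact fun x hx => centraliser_powers (hval hd) scanD x hx
  · intro k hk
    rcases hreps k hk with h0 | ⟨i, -, hi⟩
    · exact Or.inl h0
    · exact Or.inr ⟨i, einj (by rw [hmul, hmul, epow, epow, hc, hd, hi])⟩
  · intro i hi
    obtain ⟨j, -, hj⟩ := hshift i hi
    exact ⟨j, einj (by rw [hmul, hmul, hmul, epow, epow, hc, hd, hj])⟩
  · intro i hi
    rcases hno i hi with h0 | ⟨h1, h2⟩
    · exact Or.inl h0
    · refine Or.inr ⟨relWords.getD (i - 1) [], einj ?_, fun h => h2 ?_⟩
      · rw [enc_word3, hc, hd, he, h1, j1Code.enc_one]; rfl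
      · have := congrArg j1Code.enc h
        rw [enc_word3, hmul, epow, hc, hd, he, j1Code.enc_one] at this
        exact this

end Cfsg.Agent.SporB.J1
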