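import Cfsg.Agent.AutCert.Common
import Cfsg.Agent.AutCert.M22Data

set_option autoImplicit false

/-!
All automorphisms of M22.
-/

namespace Cfsg.Agent.AutCert

open Cfsg Cfsg.Agent.SchurCert Cfsg.Agent.Golay
open scoped Pointwise

theorem m22_card : Nat.card Cfsg.Spor.M22 = 443520 := card_inf_stabilizer_two (by decide)

theorem m22Gens_tested : m22Gens.all validPair = true ∧ ∀ x ∈ m22Gens,
    PreservesRows (codeFun x.1) ∧ codeFun x.1 none = none ∧ codeFun x.1 (some 0) = some 0 := by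
  decide +kernel

theorem m22Gens_mem : ∀ x ∈ m22Gens, permOfPair x ∈ Cfsg.Spor.M22 := by
  intro x hx
  have hv := List.all_eq_true.1 m22Gens_tested.1 x hx
  have h := m22Gens_tested.2 x hx
  exact ⟨⟨permOfPair_mem_M24 hv h.1, MulAction.mem_stabilizer_iff.2 ((permOfPair_apply hv _).trans h.2.1)⟩,
    MulAction.mem_stabilizer_iff.2 ((permOfPair_apply hv _).trans h.2.2)⟩

theorem m22_automorphisms (φ : MulAut Cfsg.Spor.M22) :
    ∃ h : Cfsg.Spor.M22, ∃ g < m22Conjs.length, ∀ x : Cfsg.Spor.M22,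
      ((φ x : Cfsg.Spor.M22) : Equiv.Perm GolayPt) =
        h.1 * permOfPair (m22Conjs.getD g (permOne, permOne)) * x.1 *
          (h.1 * permOfPair (m22Conjs.getD g (permOne, permOne)))⁻¹ := by
  haveI : Fintype Cfsg.Spor.M22 := Fintype.ofFinite _
  have henc : ∀ i, encPerm (elemAt Cfsg.Spor.M22 m22Gens i).1 = (m22Gens.map Prod.fst).getD i permOne :=
    enc_elemAt m22Gens_tested.1 m22Gens_mem
  have hv : m22Conjs.all validPair = true := by decide +kernel
  have hb : m22AutCert.genC.bound = 443520 := by decide +kernel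
  have hlen : m22AutCert.conjs.length = m22Conjs.length := by decide +kernel
  obtain ⟨h, i, hi, hx⟩ := exists_conj_of_check m22AutCert
    (show Nat.Prime 11 by norm_num) (m22_card.trans hb.symm)
    (show ¬ 11 ^ 2 ∣ Nat.card Cfsg.Spor.M22 by rw [m22_card]; norm_num)
    (c := elemAt Cfsg.Spor.M22 m22Gens 0) (d := elemAt Cfsg.Spor.M22 m22Gens 1) (e := elemAt Cfsg.Spor.M22 m22Gens 2)
    ((henc 0).trans (by decide +kernel)) ((henc 1).trans (by decide +kernel))
    ((henc 2).trans (by decide +kernel))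
    (fun i => permOfPair (m22Conjs.getD i (permOne, permOne)))
    (fun i hi => encPerm_getD hv i (hlen ▸ hi)) m22AutCert_check φ
  exact ⟨h, i, hlen ▸ hi, hx⟩

/-- An element of `Cfsg.M24` inducing the outer automorphism. -/
def m22Tau : Equiv.Perm GolayPt := permOfPair (m22Conjs.getD 1 (permOne, permOne))

theorem m22Tau_data : validPair (m22Conjs.getD 1 (permOne, permOne)) = true ∧
    ∀ x ∈ [m22Conjs.getD 1 (permOne, permOne)], PreservesRows (codeFun x.1) ∧ codeFun x.1 none = some 0 ∧ codeFun x.1 (some 0) = none := by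
  decide +kernel

theorem m22Tau_mem : m22Tau ∈ M24 :=
  permOfPair_mem_M24 m22Tau_data.1 (m22Tau_data.2 _ List.mem_cons_self).1

theorem m22Tau_tested : m22Tau ∈ M24 ∧ (m22Tau none = some 0 ∧ m22Tau (some 0) = none) := by
  have hv := m22Tau_data.1
  have h := m22Tau_data.2 _ List.mem_cons_self
  exact ⟨m22Tau_mem, ⟨permOfPair_apply hv none ▸ h.2.1, permOfPair_apply hv _ ▸ h.2.2⟩⟩

theorem m22Tau_conj_mem {x : Equiv.Perm GolayPt} (hx : x ∈ Cfsg.Spor.M22) :
    m22Tau * x * m22Tau⁻¹ ∈ Cfsg.Spor.M22 := by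
  obtain ⟨hx1, hx2⟩ := hx
  obtain ⟨hx0, hxi⟩ := hx1
  obtain ⟨ha, hb⟩ := m22Tau_tested.2
  refine Subgroup.mem_inf.2 ⟨Subgroup.mem_inf.2 ⟨mul_mem (mul_mem m22Tau_mem hx0) (inv_mem m22Tau_mem), ?_⟩, ?_⟩
  · refine MulAction.mem_stabilizer_iff.2 ?_
    change m22Tau (x (m22Tau⁻¹ none)) = none
    rw [Equiv.Perm.inv_eq_iff_eq.2 hb.symm, show x (some 0) = some 0 from hx2, hb]
  · refine MulAction.mem_stabilizer_iff.2 ?_
    change m22Tau (x (m22Tau⁻¹ (some 0))) = some 0
    rw [Equiv.Perm.inv_eq_iff_eq.2 ha.symm, show x none = none from hxi, ha]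

theorem m22Tau_conj_mem' {x : Equiv.Perm GolayPt} (hx : x ∈ Cfsg.Spor.M22) :
    m22Tau⁻¹ * x * m22Tau ∈ Cfsg.Spor.M22 := by
  obtain ⟨hx1, hx2⟩ := hx
  obtain ⟨hx0, hxi⟩ := hx1
  obtain ⟨ha, hb⟩ := m22Tau_tested.2
  refine Subgroup.mem_inf.2 ⟨Subgroup.mem_inf.2 ⟨mul_mem (mul_mem (inv_mem m22Tau_mem) hx0) m22Tau_mem, ?_⟩, ?_⟩
  · refine MulAction.mem_stabilizer_iff.2 ?_
    change m22Tau⁻¹ (x (m22Tau none)) = none
    rw [ha, show x (some 0) = some 0 from hx2, Equiv.Perm.inv_eq_iff_eq, ha]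
  · refine MulAction.mem_stabilizer_iff.2 ?_
    change m22Tau⁻¹ (x (m22Tau (some 0))) = some 0
    rw [hb, show x none = none from hxi, Equiv.Perm.inv_eq_iff_eq, hb]

theorem m22Tau_outer : ¬ ∃ a : Cfsg.Spor.M22, ∀ x : Cfsg.Spor.M22, m22Tau * x.1 * m22Tau⁻¹ = a.1 * x.1 * a.1⁻¹ := by
  rintro ⟨a, ha⟩
  haveI : Fintype Cfsg.Spor.M22 := Fintype.ofFinite _
  have henc : ∀ i, encPerm (elemAt Cfsg.Spor.M22 m22Gens i).1 = (m22Gens.map Prod.fst).getD i permOne :=
    enc_elemAt m22Gens_tested.1 m22Gens_mem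
  have hc : encPerm (elemAt Cfsg.Spor.M22 m22Gens 0).1 = m22AutCert.c := (henc 0).trans (by decide +kernel)
  have hd : encPerm (elemAt Cfsg.Spor.M22 m22Gens 1).1 = m22AutCert.d := (henc 1).trans (by decide +kernel)
  have he : encPerm (elemAt Cfsg.Spor.M22 m22Gens 2).1 = m22AutCert.e := (henc 2).trans (by decide +kernel)
  have hT : encPerm m22Tau = (m22Conjs.getD 1 (permOne, permOne)).1 :=
    encPerm_permOfPair m22Tau_data.1
  have hchk : m22AutCert.genD.check = true ∧ m22AutCert.genD.start = 3 ∧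
      m22AutCert.genD.vals.take 3 = [m22AutCert.c, m22AutCert.d, m22AutCert.e] ∧
      m22AutCert.genD.centOK m22AutCert.d m22AutCert.centD = true ∧
      m22AutCert.genD.bound = 443520 ∧
      permMul (m22Conjs.getD 1 (permOne, permOne)).1 m22AutCert.d =
        permMul m22AutCert.d (m22Conjs.getD 1 (permOne, permOne)).1 := by
    decide +kernel
  obtain ⟨hD, hs, ht, hcent, hb, hTd⟩ := hchk
  rw [← hd] at hcent hTd
  rw [← hT, ← encPerm_mul, ← encPerm_mul] at hTd
  have hTd' := encPerm_injective hTd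
  have had := ha (elemAt Cfsg.Spor.M22 m22Gens 1)
  rw [hTd', mul_inv_cancel_right, eq_mul_inv_iff_mul_eq] at had
  have hmem := centOK_sound _ hD (start_mem (c := elemAt Cfsg.Spor.M22 m22Gens 0) (d := elemAt Cfsg.Spor.M22 m22Gens 1)
      (e := elemAt Cfsg.Spor.M22 m22Gens 2) hs (by rw [hc, hd, he]; exact ht))
      (m22_card.trans hb.symm) hcent a.2 had.symm
  have hac := ha (elemAt Cfsg.Spor.M22 m22Gens 0)
  rw [eq_mul_inv_iff_mul_eq] at hac
  have key := congrArg encPerm hac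
  simp only [encPerm_mul] at key
  have hinv : encPerm m22Tau⁻¹ = (m22Conjs.getD 1 (permOne, permOne)).2 := by
    have h2 : validPair ((m22Conjs.getD 1 (permOne, permOne)).2,
        (m22Conjs.getD 1 (permOne, permOne)).1) = true := by decide +kernel
    have h3 : permMul (m22Conjs.getD 1 (permOne, permOne)).1
        (m22Conjs.getD 1 (permOne, permOne)).2 = permOne := by decide +kernel
    refine (congrArg encPerm ?_).trans (encPerm_permOfPair h2)
    refine inv_eq_of_mul_eq_one_right (encPerm_injective ?_)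
    rw [encPerm_mul, hT, encPerm_permOfPair h2, encPerm_one]
    exact h3
  rw [hinv, hT, hc] at key
  have hall : ∀ y ∈ m22AutCert.centD, permMul (permMul (permMul (m22Conjs.getD 1 (permOne, permOne)).1
      m22AutCert.c) (m22Conjs.getD 1 (permOne, permOne)).2) y ≠ permMul y m22AutCert.c := by
    decide +kernel
  exact hall _ hmem key

theorem m22_card_out : Nat.card (Cfsg.Out Cfsg.Spor.M22) = 2 := by
  refine card_out_eq_two_of_conj m22Tau (fun x hx => m22Tau_conj_mem hx)
    (fun x hx => m22Tau_conj_mem' hx) m22Tau_outer fun φ => ?_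
  obtain ⟨h, i, hi, hx⟩ := m22_automorphisms φ
  have hlen : m22Conjs.length = 2 := rfl
  rcases (show i = 0 ∨ i = 1 by omega) with rfl | rfl
  · have h1 : permOfPair (m22Conjs.getD 0 (permOne, permOne)) = 1 :=
      encPerm_injective ((encPerm_permOfPair (by decide +kernel)).trans
        ((show _ = permOne by decide +kernel).trans encPerm_one.symm))
    exact Or.inl ⟨h, fun x => by rw [hx x, h1, mul_one]⟩
  · exact Or.inr ⟨h, hx⟩

end Cfsg.Agent.AutCert
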