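import Cfsg.Agent.AutCert.Common
import Cfsg.Agent.AutCert.M24Data

set_option autoImplicit false

/-!
All automorphisms of M24.
-/

namespace Cfsg.Agent.AutCert

open Cfsg Cfsg.Agent.SchurCert Cfsg.Agent.Golay
open scoped Pointwise

theorem m24_card : Nat.card Cfsg.M24 = 244823040 := card_M24

theorem m24Gens_tested : m24Gens.all validPair = true ∧ ∀ x ∈ m24Gens,
    PreservesRows (codeFun x.1) := by
  decide +kernel

theorem m24Gens_mem : ∀ x ∈ m24Gens, permOfPair x ∈ Cfsg.M24 := by
  intro x hx
  have hv := List.all_eq_true.1 m24Gens_tested.1 x hx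
  have h := m24Gens_tested.2 x hx
  exact permOfPair_mem_M24 hv h

theorem m24_automorphisms (φ : MulAut Cfsg.M24) :
    ∃ h : Cfsg.M24, ∃ g < m24Conjs.length, ∀ x : Cfsg.M24,
      ((φ x : Cfsg.M24) : Equiv.Perm GolayPt) =
        h.1 * permOfPair (m24Conjs.getD g (permOne, permOne)) * x.1 *
          (h.1 * permOfPair (m24Conjs.getD g (permOne, permOne)))⁻¹ := by
  haveI : Fintype Cfsg.M24 := Fintype.ofFinite _
  have henc : ∀ i, encPerm (elemAt Cfsg.M24 m24Gens i).1 = (m24Gens.map Prod.fst).getD i permOne :=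
    enc_elemAt m24Gens_tested.1 m24Gens_mem
  have hv : m24Conjs.all validPair = true := by decide +kernel
  have hb : m24AutCert.genC.bound = 244823040 := by decide +kernel
  have hlen : m24AutCert.conjs.length = m24Conjs.length := by decide +kernel
  obtain ⟨h, i, hi, hx⟩ := exists_conj_of_check m24AutCert
    (show Nat.Prime 23 by norm_num) (m24_card.trans hb.symm)
    (show ¬ 23 ^ 2 ∣ Nat.card Cfsg.M24 by rw [m24_card]; norm_num)
    (c := elemAt Cfsg.M24 m24Gens 0) (d := elemAt Cfsg.M24 m24Gens 1) (e := elemAt Cfsg.M24 m24Gens 2)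
    ((henc 0).trans (by decide +kernel)) ((henc 1).trans (by decide +kernel))
    ((henc 2).trans (by decide +kernel))
    (fun i => permOfPair (m24Conjs.getD i (permOne, permOne)))
    (fun i hi => encPerm_getD hv i (hlen ▸ hi)) m24AutCert_check φ
  exact ⟨h, i, hlen ▸ hi, hx⟩

theorem m24_card_out : Nat.card (Cfsg.Out Cfsg.M24) = 1 := by
  refine card_out_eq_one_of_conj fun φ => ?_
  obtain ⟨h, i, hi, hx⟩ := m24_automorphisms φ
  have h1 : permOfPair (m24Conjs.getD i (permOne, permOne)) = 1 := by
    have hlen : m24Conjs.length = 1 := rfl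
    obtain rfl : i = 0 := by omega
    exact encPerm_injective ((encPerm_permOfPair (by decide +kernel)).trans
      ((show _ = permOne by decide +kernel).trans encPerm_one.symm))
  exact ⟨h, fun x => by rw [hx x, h1, mul_one]⟩

end Cfsg.Agent.AutCert
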