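import Cfsg.Agent.AutCert.ThreeGen

set_option autoImplicit false

/-!
Normal forms of the automorphisms of a group generated by `c, d, e`, where `⟨c⟩` is a Sylow
subgroup of prime order with centraliser `⟨c⟩`, `d` normalises it and `e` normalises `⟨d⟩`: after
an inner automorphism `c` goes to one of a few powers, `d` is fixed and `e` is multiplied by an
element centralising `d`.
-/

namespace Cfsg.Agent.AutCert

open scoped Pointwise

variable {G : Type*} [Group G] [Finite G]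

theorem exists_normal_form (p : ℕ) [Fact p.Prime] (hp2 : ¬ p ^ 2 ∣ Nat.card G) {c d e : G}
    {r s : ℕ} (reps : List ℕ) (L : G → Prop) (hc : orderOf c = p) (hdc : d * c = c ^ r * d)
    (hed : e * d = d ^ s * e)
    (hCc : ∀ x : G, x * c = c * x → ∃ i < p, x = c ^ i)
    (hCd : ∀ x : G, x * d = d * x → L x)
    (hreps : ∀ k < p, k = 0 ∨ ∃ k₀ ∈ reps, ∃ i : ℕ, d ^ i * c ^ k = c ^ k₀ * d ^ i)
    (hrep0 : ∀ k₀ ∈ reps, ¬ p ∣ k₀)
    (hshift : ∀ i < p, ∃ j : ℕ, c ^ j * (d * c ^ i) = d * c ^ j)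
    (φ : MulAut G) : ∃ a : G, ∃ k ∈ reps, ∃ z : G, L z ∧ ∃ ψ : MulAut G,
      φ = MulAut.conj a * ψ ∧ ψ c = c ^ k ∧ ψ d = d ∧ ψ e = e * z := by
  have hp : p.Prime := Fact.out
  have hzc : Nat.card (Subgroup.zpowers c) = p ^ (Nat.card G).factorization p := by
    have h1 : (Nat.card G).factorization p = 1 := by
      have hdvd : p ∣ Nat.card G := hc ▸ orderOf_dvd_natCard c
      have hpos := hp.factorization_pos_of_dvd Nat.card_pos.ne' hdvd
      by_contra hne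
      exact hp2 ((hp.pow_dvd_iff_le_factorization Nat.card_pos.ne').2 (by omega))
    rw [h1, pow_one, Nat.card_zpowers, hc]
  let P : Sylow p G := Sylow.ofCard (Subgroup.zpowers c) hzc
  let Q : Sylow p G := Sylow.ofCard ((Subgroup.zpowers c).map φ.toMonoidHom)
    (by rw [Subgroup.card_map_of_injective φ.injective, hzc])
  obtain ⟨h₁, hh₁⟩ := MulAction.exists_smul_eq G Q P
  have hmem₁ : h₁ * φ c * h₁⁻¹ ∈ Subgroup.zpowers c := by
    have : (MulAut.conj h₁ • ((Subgroup.zpowers c).map φ.toMonoidHom)) = Subgroup.zpowers c :=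
      congrArg Sylow.toSubgroup hh₁
    rw [← this]
    exact ⟨φ c, ⟨c, Subgroup.mem_zpowers c, rfl⟩, rfl⟩
  classical
  obtain ⟨k₁, hklt, hk⟩ : ∃ k < p, c ^ k = h₁ * φ c * h₁⁻¹ := by
    rw [mem_zpowers_iff_mem_range_orderOf, Finset.mem_image] at hmem₁
    obtain ⟨k, hk, hk'⟩ := hmem₁
    exact ⟨k, hc ▸ Finset.mem_range.1 hk, hk'⟩
  obtain h0 | ⟨k, hkmem, i, hi⟩ := hreps k₁ hklt
  · rw [h0, pow_zero, eq_comm, mul_inv_eq_one, mul_eq_left] at hk
    have : c = 1 := φ.injective (hk.trans (map_one φ).symm)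
    rw [this, orderOf_one] at hc
    exact absurd hc.symm hp.ne_one
  let ψ₁ : MulAut G := MulAut.conj (d ^ i * h₁) * φ
  have hψc : ψ₁ c = c ^ k := by
    change d ^ i * h₁ * φ c * (d ^ i * h₁)⁻¹ = c ^ k
    rw [mul_inv_rev, show d ^ i * h₁ * φ c * (h₁⁻¹ * (d ^ i)⁻¹) =
      d ^ i * (h₁ * φ c * h₁⁻¹) * (d ^ i)⁻¹ by group, ← hk, hi, mul_inv_cancel_right]
  have hcomm : d⁻¹ * ψ₁ d * c = c * (d⁻¹ * ψ₁ d) := by
    have h1 : ψ₁ d * c ^ k = (c ^ k) ^ r * ψ₁ d := by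
      rw [← hψc, ← map_pow, ← map_mul, ← map_mul, hdc]
    have h2 : d * c ^ k = (c ^ k) ^ r * d := by
      rw [← pow_mul, mul_comm k, pow_mul]
      exact (SemiconjBy.pow_right (show SemiconjBy d c (c ^ r) from hdc) k).eq
    have h4 : d⁻¹ * (c ^ k) ^ r = c ^ k * d⁻¹ := by
      have h2' : (c ^ k) ^ r = d * c ^ k * d⁻¹ := by rw [h2]; group
      rw [h2']; group
    have h3 : d⁻¹ * ψ₁ d * c ^ k = c ^ k * (d⁻¹ * ψ₁ d) := by
      rw [mul_assoc, h1, ← mul_assoc, h4, mul_assoc]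
    have hkcop : Nat.gcd k p = 1 :=
      Nat.coprime_comm.1 (hp.coprime_iff_not_dvd.2 (hrep0 k hkmem))
    have hcpow : c ^ ((k : ℤ) * Nat.gcdA k p) = c := by
      have h := Nat.gcd_eq_gcd_ab k p
      rw [hkcop, Nat.cast_one] at h
      rw [show (k : ℤ) * Nat.gcdA k p = 1 + -((p : ℤ) * Nat.gcdB k p) by omega,
        zpow_add, zpow_neg, zpow_mul, zpow_natCast, ← hc, pow_orderOf_eq_one]
      simp
    rw [zpow_mul, zpow_natCast] at hcpow
    have := (Commute.zpow_right h3 (Nat.gcdA k p)).eq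
    rwa [hcpow] at this
  obtain ⟨i₂, hi₂, hi₂'⟩ := hCc _ hcomm
  obtain ⟨j, hj⟩ := hshift i₂ hi₂
  let ψ : MulAut G := MulAut.conj (c ^ j) * ψ₁
  have hψc' : ψ c = c ^ k := by
    change c ^ j * ψ₁ c * (c ^ j)⁻¹ = c ^ k
    rw [hψc, ← pow_add, add_comm, pow_add, mul_inv_cancel_right]
  have hψd : ψ d = d := by
    change c ^ j * ψ₁ d * (c ^ j)⁻¹ = d
    rw [show ψ₁ d = d * (d⁻¹ * ψ₁ d) by group, hi₂', mul_inv_eq_iff_eq_mul, hj]
  have hcommE : e⁻¹ * ψ e * d = d * (e⁻¹ * ψ e) := by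
    have h1 : ψ e * d = d ^ s * ψ e := by
      calc ψ e * d = ψ (e * d) := by rw [map_mul, hψd]
        _ = d ^ s * ψ e := by rw [hed, map_mul, map_pow, hψd]
    have h2 : e⁻¹ * d ^ s = d * e⁻¹ := by
      rw [inv_mul_eq_iff_eq_mul, ← mul_assoc, hed, mul_inv_cancel_right]
    rw [mul_assoc, h1, ← mul_assoc, h2, mul_assoc]
  refine ⟨(c ^ j * (d ^ i * h₁))⁻¹, k, hkmem, e⁻¹ * ψ e, hCd _ hcommE, ψ, ?_, hψc', hψd,
    (mul_inv_cancel_left _ _).symm⟩
  rw [map_inv, map_mul, map_mul]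
  simp [ψ, ψ₁, mul_assoc]

/-- The images of the three generators determine an automorphism. -/
theorem eq_of_three {c d e : G} (hgen : Subgroup.closure ({c, d, e} : Set G) = ⊤)
    {φ ψ : MulAut G} (h1 : φ c = ψ c) (h2 : φ d = ψ d) (h3 : φ e = ψ e) : φ = ψ := by
  have hid : φ.toMonoidHom = ψ.toMonoidHom := by
    apply MonoidHom.eq_of_eqOn_dense hgen
    intro x hx
    simp only [Set.mem_insert_iff, Set.mem_singleton_iff] at hx
    rcases hx with rfl | rfl | rfl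
    exacts [h1, h2, h3]
  exact MulEquiv.ext fun x => DFunLike.congr_fun hid x

/-- An automorphism respects a relation. -/
theorem word3_of_map {c d e : G} (φ : MulAut G) {w : List ℕ} (h : word3 c d e w = 1) :
    word3 (φ c) (φ d) (φ e) w = 1 := by
  have := map_word3 φ.toMonoidHom c d e w
  rw [h, map_one] at this
  exact this.symm

/-- If all normalised automorphisms are the identity or one other, any two outer ones differ by
an inner one. -/
theorem exists_conj_or {c d e : G} (hgen : Subgroup.closure ({c, d, e} : Set G) = ⊤)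
    {k : ℕ} {z : G} (σ : MulAut G) (hσ : ∀ a, σ ≠ MulAut.conj a)
    (h : ∀ φ : MulAut G, ∃ a, ∃ ψ : MulAut G, φ = MulAut.conj a * ψ ∧
      ((ψ c = c ∧ ψ d = d ∧ ψ e = e) ∨ (ψ c = c ^ k ∧ ψ d = d ∧ ψ e = e * z)))
    (φ : MulAut G) : ∃ a, φ = MulAut.conj a ∨ φ = σ * MulAut.conj a := by
  obtain ⟨a, ψ, rfl, hψ | hψ⟩ := h φ
  · refine ⟨a, Or.inl ?_⟩
    rw [eq_of_three hgen (φ := ψ) (ψ := 1) hψ.1 hψ.2.1 hψ.2.2, mul_one]
  obtain ⟨b, χ, hb, hχ | hχ⟩ := h σ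
  · rw [eq_of_three hgen (φ := χ) (ψ := 1) hχ.1 hχ.2.1 hχ.2.2, mul_one] at hb
    exact absurd hb (hσ b)
  · have e : ψ = χ := eq_of_three hgen (hψ.1.trans hχ.1.symm) (hψ.2.1.trans hχ.2.1.symm)
      (hψ.2.2.trans hχ.2.2.symm)
    subst e
    refine ⟨ψ⁻¹ (b⁻¹ * a), Or.inr (MulEquiv.ext fun x => ?_)⟩
    rw [hb]
    simp [mul_assoc]

end Cfsg.Agent.AutCert
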